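import Cfsg.Agent.H29.ThreeJ.Main
import Cfsg.Agent.H29.ThreeJ.Data.ReachA0
import Cfsg.Agent.H29.ThreeJ.Data.ReachA1
import Cfsg.Agent.H29.ThreeJ.Data.ReachA2
import Cfsg.Agent.H29.ThreeJ.Data.OrbA0
import Cfsg.Agent.H29.ThreeJ.Data.OrbA1
import Cfsg.Agent.H29.ThreeJ.Data.OrbA2
import Cfsg.Agent.H29.ThreeJ.Data.OrbA3
import Cfsg.Agent.H29.ThreeJ.Data.OrbA4
import Cfsg.Agent.H29.ThreeJ.Data.ReachB0
import Cfsg.Agent.H29.ThreeJ.Data.ReachB1
import Cfsg.Agent.H29.ThreeJ.Data.ReachB2
import Cfsg.Agent.H29.ThreeJ.Data.ReachB3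
import Cfsg.Agent.H29.ThreeJ.Data.IsoB0
import Cfsg.Agent.H29.ThreeJ.Data.IsoB1
import Cfsg.Agent.H29.ThreeJ.Data.IsoB2
import Cfsg.Agent.H29.ThreeJ.Data.IsoB3
import Cfsg.Agent.H29.ThreeJ.Data.IsoB4
import Cfsg.Agent.H29.ThreeJ.Data.IsoB5
import Cfsg.Agent.H29.ThreeJ.Data.IsoB6

/-! Orbit data for `3·J₃` on lines, produced outside Lean and checked here. -/

set_option autoImplicit false
set_option maxRecDepth 16000
set_option Elab.async false

namespace H29.ThreeJData

open H29.ThreeJ H29.CosetCert Cfsg.Spor

/-- The checked tables. -/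
noncomputable def tabs : Tabs :=
  ⟨T, WA, WE, WD, WB, WC, ordE, tabs_ok, words_ok, words'_ok, pows_ok⟩

theorem reachA_all : ∀ i, i < famA.n → famA.reachOK T i = true := by
  intro i hi
  change i < 23256 at hi
  by_cases h0 : i < 1000
  · exact (allIn_iff _ _ _).1 reacha0_ok i (by omega) (by omega)
  by_cases h1 : i < 2000
  · exact (allIn_iff _ _ _).1 reacha1_ok i (by omega) (by omega)
  by_cases h2 : i < 3000
  · exact (allIn_iff _ _ _).1 reacha2_ok i (by omega) (by omega)
  by_cases h3 : i < 4000
  · exact (allIn_iff _ _ _).1 reacha3_ok i (by omega) (by omega)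
  by_cases h4 : i < 5000
  · exact (allIn_iff _ _ _).1 reacha4_ok i (by omega) (by omega)
  by_cases h5 : i < 6000
  · exact (allIn_iff _ _ _).1 reacha5_ok i (by omega) (by omega)
  by_cases h6 : i < 7000
  · exact (allIn_iff _ _ _).1 reacha6_ok i (by omega) (by omega)
  by_cases h7 : i < 8000
  · exact (allIn_iff _ _ _).1 reacha7_ok i (by omega) (by omega)
  by_cases h8 : i < 9000
  · exact (allIn_iff _ _ _).1 reacha8_ok i (by omega) (by omega)
  by_cases h9 : i < 10000
  · exact (allIn_iff _ _ _).1 reacha9_ok i (by omega) (by omega)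
  by_cases h10 : i < 11000
  · exact (allIn_iff _ _ _).1 reacha10_ok i (by omega) (by omega)
  by_cases h11 : i < 12000
  · exact (allIn_iff _ _ _).1 reacha11_ok i (by omega) (by omega)
  by_cases h12 : i < 13000
  · exact (allIn_iff _ _ _).1 reacha12_ok i (by omega) (by omega)
  by_cases h13 : i < 14000
  · exact (allIn_iff _ _ _).1 reacha13_ok i (by omega) (by omega)
  by_cases h14 : i < 15000
  · exact (allIn_iff _ _ _).1 reacha14_ok i (by omega) (by omega)
  by_cases h15 : i < 16000
  · exact (allIn_iff _ _ _).1 reacha15_ok i (by omega) (by omega)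
  by_cases h16 : i < 17000
  · exact (allIn_iff _ _ _).1 reacha16_ok i (by omega) (by omega)
  by_cases h17 : i < 18000
  · exact (allIn_iff _ _ _).1 reacha17_ok i (by omega) (by omega)
  by_cases h18 : i < 19000
  · exact (allIn_iff _ _ _).1 reacha18_ok i (by omega) (by omega)
  by_cases h19 : i < 20000
  · exact (allIn_iff _ _ _).1 reacha19_ok i (by omega) (by omega)
  by_cases h20 : i < 21000
  · exact (allIn_iff _ _ _).1 reacha20_ok i (by omega) (by omega)
  by_cases h21 : i < 22000
  · exact (allIn_iff _ _ _).1 reacha21_ok i (by omega) (by omega)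
  by_cases h22 : i < 23000
  · exact (allIn_iff _ _ _).1 reacha22_ok i (by omega) (by omega)
  by_cases h23 : i < 23256
  · exact (allIn_iff _ _ _).1 reacha23_ok i (by omega) (by omega)
  omega

theorem orbA_all : ∀ i, i < famA.n → famA.orbOK T i = true := by
  intro i hi
  change i < 23256 at hi
  by_cases h0 : i < 1000
  · exact (allIn_iff _ _ _).1 orba0_ok i (by omega) (by omega)
  by_cases h1 : i < 2000
  · exact (allIn_iff _ _ _).1 orba1_ok i (by omega) (by omega)
  by_cases h2 : i < 3000
  · exact (allIn_iff _ _ _).1 orba2_ok i (by omega) (by omega)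
  by_cases h3 : i < 4000
  · exact (allIn_iff _ _ _).1 orba3_ok i (by omega) (by omega)
  by_cases h4 : i < 5000
  · exact (allIn_iff _ _ _).1 orba4_ok i (by omega) (by omega)
  by_cases h5 : i < 6000
  · exact (allIn_iff _ _ _).1 orba5_ok i (by omega) (by omega)
  by_cases h6 : i < 7000
  · exact (allIn_iff _ _ _).1 orba6_ok i (by omega) (by omega)
  by_cases h7 : i < 8000
  · exact (allIn_iff _ _ _).1 orba7_ok i (by omega) (by omega)
  by_cases h8 : i < 9000
  · exact (allIn_iff _ _ _).1 orba8_ok i (by omega) (by omega)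
  by_cases h9 : i < 10000
  · exact (allIn_iff _ _ _).1 orba9_ok i (by omega) (by omega)
  by_cases h10 : i < 11000
  · exact (allIn_iff _ _ _).1 orba10_ok i (by omega) (by omega)
  by_cases h11 : i < 12000
  · exact (allIn_iff _ _ _).1 orba11_ok i (by omega) (by omega)
  by_cases h12 : i < 13000
  · exact (allIn_iff _ _ _).1 orba12_ok i (by omega) (by omega)
  by_cases h13 : i < 14000
  · exact (allIn_iff _ _ _).1 orba13_ok i (by omega) (by omega)
  by_cases h14 : i < 15000
  · exact (allIn_iff _ _ _).1 orba14_ok i (by omega) (by omega)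
  by_cases h15 : i < 16000
  · exact (allIn_iff _ _ _).1 orba15_ok i (by omega) (by omega)
  by_cases h16 : i < 17000
  · exact (allIn_iff _ _ _).1 orba16_ok i (by omega) (by omega)
  by_cases h17 : i < 18000
  · exact (allIn_iff _ _ _).1 orba17_ok i (by omega) (by omega)
  by_cases h18 : i < 19000
  · exact (allIn_iff _ _ _).1 orba18_ok i (by omega) (by omega)
  by_cases h19 : i < 20000
  · exact (allIn_iff _ _ _).1 orba19_ok i (by omega) (by omega)
  by_cases h20 : i < 21000
  · exact (allIn_iff _ _ _).1 orba20_ok i (by omega) (by omega)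
  by_cases h21 : i < 22000
  · exact (allIn_iff _ _ _).1 orba21_ok i (by omega) (by omega)
  by_cases h22 : i < 23000
  · exact (allIn_iff _ _ _).1 orba22_ok i (by omega) (by omega)
  by_cases h23 : i < 23256
  · exact (allIn_iff _ _ _).1 orba23_ok i (by omega) (by omega)
  omega

theorem reachB_all : ∀ i, i < famB.n → famB.reachOK T i = true := by
  intro i hi
  change i < 43605 at hi
  by_cases h0 : i < 1000
  · exact (allIn_iff _ _ _).1 reachb0_ok i (by omega) (by omega)
  by_cases h1 : i < 2000
  · exact (allIn_iff _ _ _).1 reachb1_ok i (by omega) (by omega)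
  by_cases h2 : i < 3000
  · exact (allIn_iff _ _ _).1 reachb2_ok i (by omega) (by omega)
  by_cases h3 : i < 4000
  · exact (allIn_iff _ _ _).1 reachb3_ok i (by omega) (by omega)
  by_cases h4 : i < 5000
  · exact (allIn_iff _ _ _).1 reachb4_ok i (by omega) (by omega)
  by_cases h5 : i < 6000
  · exact (allIn_iff _ _ _).1 reachb5_ok i (by omega) (by omega)
  by_cases h6 : i < 7000
  · exact (allIn_iff _ _ _).1 reachb6_ok i (by omega) (by omega)
  by_cases h7 : i < 8000
  · exact (allIn_iff _ _ _).1 reachb7_ok i (by omega) (by omega)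
  by_cases h8 : i < 9000
  · exact (allIn_iff _ _ _).1 reachb8_ok i (by omega) (by omega)
  by_cases h9 : i < 10000
  · exact (allIn_iff _ _ _).1 reachb9_ok i (by omega) (by omega)
  by_cases h10 : i < 11000
  · exact (allIn_iff _ _ _).1 reachb10_ok i (by omega) (by omega)
  by_cases h11 : i < 12000
  · exact (allIn_iff _ _ _).1 reachb11_ok i (by omega) (by omega)
  by_cases h12 : i < 13000
  · exact (allIn_iff _ _ _).1 reachb12_ok i (by omega) (by omega)
  by_cases h13 : i < 14000
  · exact (allIn_iff _ _ _).1 reachb13_ok i (by omega) (by omega)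
  by_cases h14 : i < 15000
  · exact (allIn_iff _ _ _).1 reachb14_ok i (by omega) (by omega)
  by_cases h15 : i < 16000
  · exact (allIn_iff _ _ _).1 reachb15_ok i (by omega) (by omega)
  by_cases h16 : i < 17000
  · exact (allIn_iff _ _ _).1 reachb16_ok i (by omega) (by omega)
  by_cases h17 : i < 18000
  · exact (allIn_iff _ _ _).1 reachb17_ok i (by omega) (by omega)
  by_cases h18 : i < 19000
  · exact (allIn_iff _ _ _).1 reachb18_ok i (by omega) (by omega)
  by_cases h19 : i < 20000
  · exact (allIn_iff _ _ _).1 reachb19_ok i (by omega) (by omega)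
  by_cases h20 : i < 21000
  · exact (allIn_iff _ _ _).1 reachb20_ok i (by omega) (by omega)
  by_cases h21 : i < 22000
  · exact (allIn_iff _ _ _).1 reachb21_ok i (by omega) (by omega)
  by_cases h22 : i < 23000
  · exact (allIn_iff _ _ _).1 reachb22_ok i (by omega) (by omega)
  by_cases h23 : i < 24000
  · exact (allIn_iff _ _ _).1 reachb23_ok i (by omega) (by omega)
  by_cases h24 : i < 25000
  · exact (allIn_iff _ _ _).1 reachb24_ok i (by omega) (by omega)
  by_cases h25 : i < 26000
  · exact (allIn_iff _ _ _).1 reachb25_ok i (by omega) (by omega)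
  by_cases h26 : i < 27000
  · exact (allIn_iff _ _ _).1 reachb26_ok i (by omega) (by omega)
  by_cases h27 : i < 28000
  · exact (allIn_iff _ _ _).1 reachb27_ok i (by omega) (by omega)
  by_cases h28 : i < 29000
  · exact (allIn_iff _ _ _).1 reachb28_ok i (by omega) (by omega)
  by_cases h29 : i < 30000
  · exact (allIn_iff _ _ _).1 reachb29_ok i (by omega) (by omega)
  by_cases h30 : i < 31000
  · exact (allIn_iff _ _ _).1 reachb30_ok i (by omega) (by omega)
  by_cases h31 : i < 32000
  · exact (allIn_iff _ _ _).1 reachb31_ok i (by omega) (by omega)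
  by_cases h32 : i < 33000
  · exact (allIn_iff _ _ _).1 reachb32_ok i (by omega) (by omega)
  by_cases h33 : i < 34000
  · exact (allIn_iff _ _ _).1 reachb33_ok i (by omega) (by omega)
  by_cases h34 : i < 35000
  · exact (allIn_iff _ _ _).1 reachb34_ok i (by omega) (by omega)
  by_cases h35 : i < 36000
  · exact (allIn_iff _ _ _).1 reachb35_ok i (by omega) (by omega)
  by_cases h36 : i < 37000
  · exact (allIn_iff _ _ _).1 reachb36_ok i (by omega) (by omega)
  by_cases h37 : i < 38000
  · exact (allIn_iff _ _ _).1 reachb37_ok i (by omega) (by omega)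
  by_cases h38 : i < 39000
  · exact (allIn_iff _ _ _).1 reachb38_ok i (by omega) (by omega)
  by_cases h39 : i < 40000
  · exact (allIn_iff _ _ _).1 reachb39_ok i (by omega) (by omega)
  by_cases h40 : i < 41000
  · exact (allIn_iff _ _ _).1 reachb40_ok i (by omega) (by omega)
  by_cases h41 : i < 42000
  · exact (allIn_iff _ _ _).1 reachb41_ok i (by omega) (by omega)
  by_cases h42 : i < 43000
  · exact (allIn_iff _ _ _).1 reachb42_ok i (by omega) (by omega)
  by_cases h43 : i < 43605
  · exact (allIn_iff _ _ _).1 reachb43_ok i (by omega) (by omega)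
  omega

theorem iso_all : ∀ j r, j < 9 → r < 4 ^ (8 - j) → famB.isoOK (T 5) j r = true := by
  intro j r hj hr
  interval_cases j
  · norm_num at hr
    by_cases h0 : r < 2500
    · exact (allIn_iff _ _ _).1 isob0_ok r (by omega) (by omega)
    by_cases h1 : r < 5000
    · exact (allIn_iff _ _ _).1 isob1_ok r (by omega) (by omega)
    by_cases h2 : r < 7500
    · exact (allIn_iff _ _ _).1 isob2_ok r (by omega) (by omega)
    by_cases h3 : r < 10000
    · exact (allIn_iff _ _ _).1 isob3_ok r (by omega) (by omega)
    by_cases h4 : r < 12500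
    · exact (allIn_iff _ _ _).1 isob4_ok r (by omega) (by omega)
    by_cases h5 : r < 15000
    · exact (allIn_iff _ _ _).1 isob5_ok r (by omega) (by omega)
    by_cases h6 : r < 17500
    · exact (allIn_iff _ _ _).1 isob6_ok r (by omega) (by omega)
    by_cases h7 : r < 20000
    · exact (allIn_iff _ _ _).1 isob7_ok r (by omega) (by omega)
    by_cases h8 : r < 22500
    · exact (allIn_iff _ _ _).1 isob8_ok r (by omega) (by omega)
    by_cases h9 : r < 25000
    · exact (allIn_iff _ _ _).1 isob9_ok r (by omega) (by omega)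
    by_cases h10 : r < 27500
    · exact (allIn_iff _ _ _).1 isob10_ok r (by omega) (by omega)
    by_cases h11 : r < 30000
    · exact (allIn_iff _ _ _).1 isob11_ok r (by omega) (by omega)
    by_cases h12 : r < 32500
    · exact (allIn_iff _ _ _).1 isob12_ok r (by omega) (by omega)
    by_cases h13 : r < 35000
    · exact (allIn_iff _ _ _).1 isob13_ok r (by omega) (by omega)
    by_cases h14 : r < 37500
    · exact (allIn_iff _ _ _).1 isob14_ok r (by omega) (by omega)
    by_cases h15 : r < 40000
    · exact (allIn_iff _ _ _).1 isob15_ok r (by omega) (by omega)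
    by_cases h16 : r < 42500
    · exact (allIn_iff _ _ _).1 isob16_ok r (by omega) (by omega)
    by_cases h17 : r < 45000
    · exact (allIn_iff _ _ _).1 isob17_ok r (by omega) (by omega)
    by_cases h18 : r < 47500
    · exact (allIn_iff _ _ _).1 isob18_ok r (by omega) (by omega)
    by_cases h19 : r < 50000
    · exact (allIn_iff _ _ _).1 isob19_ok r (by omega) (by omega)
    by_cases h20 : r < 52500
    · exact (allIn_iff _ _ _).1 isob20_ok r (by omega) (by omega)
    by_cases h21 : r < 55000
    · exact (allIn_iff _ _ _).1 isob21_ok r (by omega) (by omega)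
    by_cases h22 : r < 57500
    · exact (allIn_iff _ _ _).1 isob22_ok r (by omega) (by omega)
    by_cases h23 : r < 60000
    · exact (allIn_iff _ _ _).1 isob23_ok r (by omega) (by omega)
    by_cases h24 : r < 62500
    · exact (allIn_iff _ _ _).1 isob24_ok r (by omega) (by omega)
    by_cases h25 : r < 65000
    · exact (allIn_iff _ _ _).1 isob25_ok r (by omega) (by omega)
    exact (allIn_iff _ _ _).1 isob26_ok r (by omega) (by omega)
  · norm_num at hr
    by_cases h27 : r < 2500
    · exact (allIn_iff _ _ _).1 isob27_ok r (by omega) (by omega)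
    by_cases h28 : r < 5000
    · exact (allIn_iff _ _ _).1 isob28_ok r (by omega) (by omega)
    by_cases h29 : r < 7500
    · exact (allIn_iff _ _ _).1 isob29_ok r (by omega) (by omega)
    by_cases h30 : r < 10000
    · exact (allIn_iff _ _ _).1 isob30_ok r (by omega) (by omega)
    by_cases h31 : r < 12500
    · exact (allIn_iff _ _ _).1 isob31_ok r (by omega) (by omega)
    by_cases h32 : r < 15000
    · exact (allIn_iff _ _ _).1 isob32_ok r (by omega) (by omega)
    exact (allIn_iff _ _ _).1 isob33_ok r (by omega) (by omega)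
  · norm_num at hr
    by_cases h34 : r < 2500
    · exact (allIn_iff _ _ _).1 isob34_ok r (by omega) (by omega)
    exact (allIn_iff _ _ _).1 isob35_ok r (by omega) (by omega)
  · norm_num at hr
    exact (allIn_iff _ _ _).1 isob36_ok r (by omega) (by omega)
  · norm_num at hr
    exact (allIn_iff _ _ _).1 isob37_ok r (by omega) (by omega)
  · norm_num at hr
    exact (allIn_iff _ _ _).1 isob38_ok r (by omega) (by omega)
  · norm_num at hr
    exact (allIn_iff _ _ _).1 isob39_ok r (by omega) (by omega)
  · norm_num at hr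
    exact (allIn_iff _ _ _).1 isob40_ok r (by omega) (by omega)
  · norm_num at hr
    exact (allIn_iff _ _ _).1 isob41_ok r (by omega) (by omega)

end H29.ThreeJData
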