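import Cfsg.Agent.H29.ThreeJ.Code

/-! Orbit data for `3·J₃` on lines, produced outside Lean and checked here. -/

set_option autoImplicit false
set_option maxRecDepth 16000
set_option Elab.async false

namespace H29.ThreeJData

open H29.ThreeJ H29.CosetCert Cfsg.Spor

/-- Table 0. -/
noncomputable def tab0 : Tr :=
(.node
(.node
(.node
(.node
(.node
(.node
(.leaf 0)
(.node
(.node
(.leaf 32)
(.leaf 0x10000))
(.node
(.leaf 0xc00)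
(.leaf 0))))
(.node
(.node
(.node
(.leaf 16)
(.leaf 0x30000))
(.node
(.leaf 0x800)
(.leaf 0)))
(.node
(.node
(.leaf 48)
(.leaf 0x20000))
(.node
(.leaf 0x400)
(.leaf 0)))))
(.node
(.node
(.node
(.node
(.leaf 8)
(.leaf 0x4000))
(.node
(.leaf 768)
(.leaf 0)))
(.node
(.node
(.leaf 40)
(.leaf 0x14000))
(.node
(.leaf 0xf00)
(.leaf 0))))
(.node
(.node
(.node
(.leaf 24)
(.leaf 0x34000))
(.node
(.leaf 0xb00)
(.leaf 0)))
(.node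
(.node
(.leaf 56)
(.leaf 0x24000))
(.node
(.leaf 0x700)
(.leaf 0))))))
(.node
(.node
(.node
(.node
(.node
(.leaf 4)
(.leaf 0xc000))
(.node
(.leaf 512)
(.leaf 0)))
(.node
(.node
(.leaf 36)
(.leaf 0x1c000))
(.node
(.leaf 0xe00)
(.leaf 0))))
(.node
(.node
(.node
(.leaf 20)
(.leaf 0x3c000))
(.node
(.leaf 0xa00)
(.leaf 0)))
(.node
(.node
(.leaf 52)
(.leaf 0x2c000))
(.node
(.leaf 0x600)
(.leaf 0)))))
(.node
(.node
(.node
(.node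
(.leaf 12)
(.leaf 0x8000))
(.node
(.leaf 256)
(.leaf 0)))
(.node
(.node
(.leaf 44)
(.leaf 0x18000))
(.node
(.leaf 0xd00)
(.leaf 0))))
(.node
(.node
(.node
(.leaf 28)
(.leaf 0x38000))
(.node
(.leaf 0x900)
(.leaf 0)))
(.node
(.node
(.leaf 60)
(.leaf 0x28000))
(.node
(.leaf 0x500)
(.leaf 0)))))))
(.node
(.node
(.node
(.node
(.node
(.node
(.leaf 2)
(.leaf 0x1000))
(.node
(.leaf 192)
(.leaf 0)))
(.node
(.node
(.leaf 34)
(.leaf 0x11000))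
(.node
(.leaf 0xcc0)
(.leaf 0))))
(.node
(.node
(.node
(.leaf 18)
(.leaf 0x31000))
(.node
(.leaf 0x8c0)
(.leaf 0)))
(.node
(.node
(.leaf 50)
(.leaf 0x21000))
(.node
(.leaf 0x4c0)
(.leaf 0)))))
(.node
(.node
(.node
(.node
(.leaf 10)
(.leaf 0x5000))
(.node
(.leaf 960)
(.leaf 0)))
(.node
(.node
(.leaf 42)
(.leaf 0x15000))
(.node
(.leaf 0xfc0)
(.leaf 0))))
(.node
(.node
(.node
(.leaf 26)
(.leaf 0x35000))
(.node
(.leaf 0xbc0)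
(.leaf 0)))
(.node
(.node
(.leaf 58)
(.leaf 0x25000))
(.node
(.leaf 0x7c0)
(.leaf 0))))))
(.node
(.node
(.node
(.node
(.node
(.leaf 6)
(.leaf 0xd000))
(.node
(.leaf 704)
(.leaf 0)))
(.node
(.node
(.leaf 38)
(.leaf 0x1d000))
(.node
(.leaf 0xec0)
(.leaf 0))))
(.node
(.node
(.node
(.leaf 22)
(.leaf 0x3d000))
(.node
(.leaf 0xac0)
(.leaf 0)))
(.node
(.node
(.leaf 54)
(.leaf 0x2d000))
(.node
(.leaf 0x6c0)
(.leaf 0)))))
(.node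
(.node
(.node
(.node
(.leaf 14)
(.leaf 0x9000))
(.node
(.leaf 448)
(.leaf 0)))
(.node
(.node
(.leaf 46)
(.leaf 0x19000))
(.node
(.leaf 0xdc0)
(.leaf 0))))
(.node
(.node
(.node
(.leaf 30)
(.leaf 0x39000))
(.node
(.leaf 0x9c0)
(.leaf 0)))
(.node
(.node
(.leaf 62)
(.leaf 0x29000))
(.node
(.leaf 0x5c0)
(.leaf 0))))))))
(.node
(.node
(.node
(.node
(.node
(.node
(.node
(.leaf 1)
(.leaf 0x3000))
(.node
(.leaf 128)
(.leaf 0)))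
(.node
(.node
(.leaf 33)
(.leaf 0x13000))
(.node
(.leaf 0xc80)
(.leaf 0))))
(.node
(.node
(.node
(.leaf 17)
(.leaf 0x33000))
(.node
(.leaf 0x880)
(.leaf 0)))
(.node
(.node
(.leaf 49)
(.leaf 0x23000))
(.node
(.leaf 0x480)
(.leaf 0)))))
(.node
(.node
(.node
(.node
(.leaf 9)
(.leaf 0x7000))
(.node
(.leaf 896)
(.leaf 0)))
(.node
(.node
(.leaf 41)
(.leaf 0x17000))
(.node
(.leaf 0xf80)
(.leaf 0))))
(.node
(.node
(.node
(.leaf 25)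
(.leaf 0x37000))
(.node
(.leaf 0xb80)
(.leaf 0)))
(.node
(.node
(.leaf 57)
(.leaf 0x27000))
(.node
(.leaf 0x780)
(.leaf 0))))))
(.node
(.node
(.node
(.node
(.node
(.leaf 5)
(.leaf 0xf000))
(.node
(.leaf 640)
(.leaf 0)))
(.node
(.node
(.leaf 37)
(.leaf 0x1f000))
(.node
(.leaf 0xe80)
(.leaf 0))))
(.node
(.node
(.node
(.leaf 21)
(.leaf 0x3f000))
(.node
(.leaf 0xa80)
(.leaf 0)))
(.node
(.node
(.leaf 53)
(.leaf 0x2f000))
(.node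
(.leaf 0x680)
(.leaf 0)))))
(.node
(.node
(.node
(.node
(.leaf 13)
(.leaf 0xb000))
(.node
(.leaf 384)
(.leaf 0)))
(.node
(.node
(.leaf 45)
(.leaf 0x1b000))
(.node
(.leaf 0xd80)
(.leaf 0))))
(.node
(.node
(.node
(.leaf 29)
(.leaf 0x3b000))
(.node
(.leaf 0x980)
(.leaf 0)))
(.node
(.node
(.leaf 61)
(.leaf 0x2b000))
(.node
(.leaf 0x580)
(.leaf 0)))))))
(.node
(.node
(.node
(.node
(.node
(.node
(.leaf 3)
(.leaf 0x2000))
(.node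
(.leaf 64)
(.leaf 0)))
(.node
(.node
(.leaf 35)
(.leaf 0x12000))
(.node
(.leaf 0xc40)
(.leaf 0))))
(.node
(.node
(.node
(.leaf 19)
(.leaf 0x32000))
(.node
(.leaf 0x840)
(.leaf 0)))
(.node
(.node
(.leaf 51)
(.leaf 0x22000))
(.node
(.leaf 0x440)
(.leaf 0)))))
(.node
(.node
(.node
(.node
(.leaf 11)
(.leaf 0x6000))
(.node
(.leaf 832)
(.leaf 0)))
(.node
(.node
(.leaf 43)
(.leaf 0x16000))
(.node
(.leaf 0xf40)
(.leaf 0))))
(.node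
(.node
(.node
(.leaf 27)
(.leaf 0x36000))
(.node
(.leaf 0xb40)
(.leaf 0)))
(.node
(.node
(.leaf 59)
(.leaf 0x26000))
(.node
(.leaf 0x740)
(.leaf 0))))))
(.node
(.node
(.node
(.node
(.node
(.leaf 7)
(.leaf 0xe000))
(.node
(.leaf 576)
(.leaf 0)))
(.node
(.node
(.leaf 39)
(.leaf 0x1e000))
(.node
(.leaf 0xe40)
(.leaf 0))))
(.node
(.node
(.node
(.leaf 23)
(.leaf 0x3e000))
(.node
(.leaf 0xa40)
(.leaf 0)))
(.node
(.node
(.leaf 55)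
(.leaf 0x2e000))
(.node
(.leaf 0x640)
(.leaf 0)))))
(.node
(.node
(.node
(.node
(.leaf 15)
(.leaf 0xa000))
(.node
(.leaf 320)
(.leaf 0)))
(.node
(.node
(.leaf 47)
(.leaf 0x1a000))
(.node
(.leaf 0xd40)
(.leaf 0))))
(.node
(.node
(.node
(.leaf 31)
(.leaf 0x3a000))
(.node
(.leaf 0x940)
(.leaf 0)))
(.node
(.node
(.leaf 63)
(.leaf 0x2a000))
(.node
(.leaf 0x540)
(.leaf 0)))))))))

/-- Table 1. -/
noncomputable def tab1 : Tr :=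
(.node
(.node
(.node
(.node
(.node
(.node
(.leaf 0)
(.node
(.node
(.leaf 48)
(.leaf 0x10000))
(.node
(.leaf 0x400)
(.leaf 0))))
(.node
(.node
(.node
(.leaf 32)
(.leaf 0x30000))
(.node
(.leaf 0xc00)
(.leaf 0)))
(.node
(.node
(.leaf 16)
(.leaf 0x20000))
(.node
(.leaf 0x800)
(.leaf 0)))))
(.node
(.node
(.node
(.node
(.leaf 12)
(.leaf 0x4000))
(.node
(.leaf 256)
(.leaf 0)))
(.node
(.node
(.leaf 60)
(.leaf 0x14000))
(.node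
(.leaf 0x500)
(.leaf 0))))
(.node
(.node
(.node
(.leaf 44)
(.leaf 0x34000))
(.node
(.leaf 0xd00)
(.leaf 0)))
(.node
(.node
(.leaf 28)
(.leaf 0x24000))
(.node
(.leaf 0x900)
(.leaf 0))))))
(.node
(.node
(.node
(.node
(.node
(.leaf 8)
(.leaf 0xc000))
(.node
(.leaf 768)
(.leaf 0)))
(.node
(.node
(.leaf 56)
(.leaf 0x1c000))
(.node
(.leaf 0x700)
(.leaf 0))))
(.node
(.node
(.node
(.leaf 40)
(.leaf 0x3c000))
(.node
(.leaf 0xf00)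
(.leaf 0)))
(.node
(.node
(.leaf 24)
(.leaf 0x2c000))
(.node
(.leaf 0xb00)
(.leaf 0)))))
(.node
(.node
(.node
(.node
(.leaf 4)
(.leaf 0x8000))
(.node
(.leaf 512)
(.leaf 0)))
(.node
(.node
(.leaf 52)
(.leaf 0x18000))
(.node
(.leaf 0x600)
(.leaf 0))))
(.node
(.node
(.node
(.leaf 36)
(.leaf 0x38000))
(.node
(.leaf 0xe00)
(.leaf 0)))
(.node
(.node
(.leaf 20)
(.leaf 0x28000))
(.node
(.leaf 0xa00)
(.leaf 0)))))))
(.node
(.node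
(.node
(.node
(.node
(.node
(.leaf 2)
(.leaf 0x3000))
(.node
(.leaf 192)
(.leaf 0)))
(.node
(.node
(.leaf 50)
(.leaf 0x13000))
(.node
(.leaf 0x4c0)
(.leaf 0))))
(.node
(.node
(.node
(.leaf 34)
(.leaf 0x33000))
(.node
(.leaf 0xcc0)
(.leaf 0)))
(.node
(.node
(.leaf 18)
(.leaf 0x23000))
(.node
(.leaf 0x8c0)
(.leaf 0)))))
(.node
(.node
(.node
(.node
(.leaf 14)
(.leaf 0x7000))
(.node
(.leaf 448)
(.leaf 0)))
(.node
(.node
(.leaf 62)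
(.leaf 0x17000))
(.node
(.leaf 0x5c0)
(.leaf 0))))
(.node
(.node
(.node
(.leaf 46)
(.leaf 0x37000))
(.node
(.leaf 0xdc0)
(.leaf 0)))
(.node
(.node
(.leaf 30)
(.leaf 0x27000))
(.node
(.leaf 0x9c0)
(.leaf 0))))))
(.node
(.node
(.node
(.node
(.node
(.leaf 10)
(.leaf 0xf000))
(.node
(.leaf 960)
(.leaf 0)))
(.node
(.node
(.leaf 58)
(.leaf 0x1f000))
(.node
(.leaf 0x7c0)
(.leaf 0))))
(.node
(.node
(.node
(.leaf 42)
(.leaf 0x3f000))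
(.node
(.leaf 0xfc0)
(.leaf 0)))
(.node
(.node
(.leaf 26)
(.leaf 0x2f000))
(.node
(.leaf 0xbc0)
(.leaf 0)))))
(.node
(.node
(.node
(.node
(.leaf 6)
(.leaf 0xb000))
(.node
(.leaf 704)
(.leaf 0)))
(.node
(.node
(.leaf 54)
(.leaf 0x1b000))
(.node
(.leaf 0x6c0)
(.leaf 0))))
(.node
(.node
(.node
(.leaf 38)
(.leaf 0x3b000))
(.node
(.leaf 0xec0)
(.leaf 0)))
(.node
(.node
(.leaf 22)
(.leaf 0x2b000))
(.node
(.leaf 0xac0)
(.leaf 0))))))))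
(.node
(.node
(.node
(.node
(.node
(.node
(.node
(.leaf 1)
(.leaf 0x2000))
(.node
(.leaf 128)
(.leaf 0)))
(.node
(.node
(.leaf 49)
(.leaf 0x12000))
(.node
(.leaf 0x480)
(.leaf 0))))
(.node
(.node
(.node
(.leaf 33)
(.leaf 0x32000))
(.node
(.leaf 0xc80)
(.leaf 0)))
(.node
(.node
(.leaf 17)
(.leaf 0x22000))
(.node
(.leaf 0x880)
(.leaf 0)))))
(.node
(.node
(.node
(.node
(.leaf 13)
(.leaf 0x6000))
(.node
(.leaf 384)
(.leaf 0)))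
(.node
(.node
(.leaf 61)
(.leaf 0x16000))
(.node
(.leaf 0x580)
(.leaf 0))))
(.node
(.node
(.node
(.leaf 45)
(.leaf 0x36000))
(.node
(.leaf 0xd80)
(.leaf 0)))
(.node
(.node
(.leaf 29)
(.leaf 0x26000))
(.node
(.leaf 0x980)
(.leaf 0))))))
(.node
(.node
(.node
(.node
(.node
(.leaf 9)
(.leaf 0xe000))
(.node
(.leaf 896)
(.leaf 0)))
(.node
(.node
(.leaf 57)
(.leaf 0x1e000))
(.node
(.leaf 0x780)
(.leaf 0))))
(.node
(.node
(.node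
(.leaf 41)
(.leaf 0x3e000))
(.node
(.leaf 0xf80)
(.leaf 0)))
(.node
(.node
(.leaf 25)
(.leaf 0x2e000))
(.node
(.leaf 0xb80)
(.leaf 0)))))
(.node
(.node
(.node
(.node
(.leaf 5)
(.leaf 0xa000))
(.node
(.leaf 640)
(.leaf 0)))
(.node
(.node
(.leaf 53)
(.leaf 0x1a000))
(.node
(.leaf 0x680)
(.leaf 0))))
(.node
(.node
(.node
(.leaf 37)
(.leaf 0x3a000))
(.node
(.leaf 0xe80)
(.leaf 0)))
(.node
(.node
(.leaf 21)
(.leaf 0x2a000))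
(.node
(.leaf 0xa80)
(.leaf 0)))))))
(.node
(.node
(.node
(.node
(.node
(.node
(.leaf 3)
(.leaf 0x1000))
(.node
(.leaf 64)
(.leaf 0)))
(.node
(.node
(.leaf 51)
(.leaf 0x11000))
(.node
(.leaf 0x440)
(.leaf 0))))
(.node
(.node
(.node
(.leaf 35)
(.leaf 0x31000))
(.node
(.leaf 0xc40)
(.leaf 0)))
(.node
(.node
(.leaf 19)
(.leaf 0x21000))
(.node
(.leaf 0x840)
(.leaf 0)))))
(.node
(.node
(.node
(.node
(.leaf 15)
(.leaf 0x5000))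
(.node
(.leaf 320)
(.leaf 0)))
(.node
(.node
(.leaf 63)
(.leaf 0x15000))
(.node
(.leaf 0x540)
(.leaf 0))))
(.node
(.node
(.node
(.leaf 47)
(.leaf 0x35000))
(.node
(.leaf 0xd40)
(.leaf 0)))
(.node
(.node
(.leaf 31)
(.leaf 0x25000))
(.node
(.leaf 0x940)
(.leaf 0))))))
(.node
(.node
(.node
(.node
(.node
(.leaf 11)
(.leaf 0xd000))
(.node
(.leaf 832)
(.leaf 0)))
(.node
(.node
(.leaf 59)
(.leaf 0x1d000))
(.node
(.leaf 0x740)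
(.leaf 0))))
(.node
(.node
(.node
(.leaf 43)
(.leaf 0x3d000))
(.node
(.leaf 0xf40)
(.leaf 0)))
(.node
(.node
(.leaf 27)
(.leaf 0x2d000))
(.node
(.leaf 0xb40)
(.leaf 0)))))
(.node
(.node
(.node
(.node
(.leaf 7)
(.leaf 0x9000))
(.node
(.leaf 576)
(.leaf 0)))
(.node
(.node
(.leaf 55)
(.leaf 0x19000))
(.node
(.leaf 0x640)
(.leaf 0))))
(.node
(.node
(.node
(.leaf 39)
(.leaf 0x39000))
(.node
(.leaf 0xe40)
(.leaf 0)))
(.node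
(.node
(.leaf 23)
(.leaf 0x29000))
(.node
(.leaf 0xa40)
(.leaf 0)))))))))

/-- Table 2. -/
noncomputable def tab2 : Tr :=
(.node
(.node
(.node
(.node
(.node
(.node
(.leaf 0)
(.node
(.node
(.leaf 0x800)
(.leaf 32))
(.node
(.leaf 0x10000)
(.leaf 0))))
(.node
(.node
(.node
(.leaf 0x400)
(.leaf 16))
(.node
(.leaf 0x30000)
(.leaf 0)))
(.node
(.node
(.leaf 0xc00)
(.leaf 48))
(.node
(.leaf 0x20000)
(.leaf 0)))))
(.node
(.node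
(.node
(.node
(.leaf 512)
(.leaf 8))
(.node
(.leaf 0xc000)
(.leaf 0)))
(.node
(.node
(.leaf 0xa00)
(.leaf 40))
(.node
(.leaf 0x1c000)
(.leaf 0))))
(.node
(.node
(.node
(.leaf 0x600)
(.leaf 24))
(.node
(.leaf 0x3c000)
(.leaf 0)))
(.node
(.node
(.leaf 0xe00)
(.leaf 56))
(.node
(.leaf 0x2c000)
(.leaf 0))))))
(.node
(.node
(.node
(.node
(.node
(.leaf 256)
(.leaf 4))
(.node
(.leaf 0x8000)
(.leaf 0)))
(.node
(.node
(.leaf 0x900)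
(.leaf 36))
(.node
(.leaf 0x18000)
(.leaf 0))))
(.node
(.node
(.node
(.leaf 0x500)
(.leaf 20))
(.node
(.leaf 0x38000)
(.leaf 0)))
(.node
(.node
(.leaf 0xd00)
(.leaf 52))
(.node
(.leaf 0x28000)
(.leaf 0)))))
(.node
(.node
(.node
(.node
(.leaf 768)
(.leaf 12))
(.node
(.leaf 0x4000)
(.leaf 0)))
(.node
(.node
(.leaf 0xb00)
(.leaf 44))
(.node
(.leaf 0x14000)
(.leaf 0))))
(.node
(.node
(.node
(.leaf 0x700)
(.leaf 28))
(.node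
(.leaf 0x34000)
(.leaf 0)))
(.node
(.node
(.leaf 0xf00)
(.leaf 60))
(.node
(.leaf 0x24000)
(.leaf 0)))))))
(.node
(.node
(.node
(.node
(.node
(.node
(.leaf 128)
(.leaf 2))
(.node
(.leaf 0x2000)
(.leaf 0)))
(.node
(.node
(.leaf 0x880)
(.leaf 34))
(.node
(.leaf 0x12000)
(.leaf 0))))
(.node
(.node
(.node
(.leaf 0x480)
(.leaf 18))
(.node
(.leaf 0x32000)
(.leaf 0)))
(.node
(.node
(.leaf 0xc80)
(.leaf 50))
(.node
(.leaf 0x22000)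
(.leaf 0)))))
(.node
(.node
(.node
(.node
(.leaf 640)
(.leaf 10))
(.node
(.leaf 0xe000)
(.leaf 0)))
(.node
(.node
(.leaf 0xa80)
(.leaf 42))
(.node
(.leaf 0x1e000)
(.leaf 0))))
(.node
(.node
(.node
(.leaf 0x680)
(.leaf 26))
(.node
(.leaf 0x3e000)
(.leaf 0)))
(.node
(.node
(.leaf 0xe80)
(.leaf 58))
(.node
(.leaf 0x2e000)
(.leaf 0))))))
(.node
(.node
(.node
(.node
(.node
(.leaf 384)
(.leaf 6))
(.node
(.leaf 0xa000)
(.leaf 0)))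
(.node
(.node
(.leaf 0x980)
(.leaf 38))
(.node
(.leaf 0x1a000)
(.leaf 0))))
(.node
(.node
(.node
(.leaf 0x580)
(.leaf 22))
(.node
(.leaf 0x3a000)
(.leaf 0)))
(.node
(.node
(.leaf 0xd80)
(.leaf 54))
(.node
(.leaf 0x2a000)
(.leaf 0)))))
(.node
(.node
(.node
(.node
(.leaf 896)
(.leaf 14))
(.node
(.leaf 0x6000)
(.leaf 0)))
(.node
(.node
(.leaf 0xb80)
(.leaf 46))
(.node
(.leaf 0x16000)
(.leaf 0))))
(.node
(.node
(.node
(.leaf 0x780)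
(.leaf 30))
(.node
(.leaf 0x36000)
(.leaf 0)))
(.node
(.node
(.leaf 0xf80)
(.leaf 62))
(.node
(.leaf 0x26000)
(.leaf 0))))))))
(.node
(.node
(.node
(.node
(.node
(.node
(.node
(.leaf 64)
(.leaf 1))
(.node
(.leaf 0x1000)
(.leaf 0)))
(.node
(.node
(.leaf 0x840)
(.leaf 33))
(.node
(.leaf 0x11000)
(.leaf 0))))
(.node
(.node
(.node
(.leaf 0x440)
(.leaf 17))
(.node
(.leaf 0x31000)
(.leaf 0)))
(.node
(.node
(.leaf 0xc40)
(.leaf 49))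
(.node
(.leaf 0x21000)
(.leaf 0)))))
(.node
(.node
(.node
(.node
(.leaf 576)
(.leaf 9))
(.node
(.leaf 0xd000)
(.leaf 0)))
(.node
(.node
(.leaf 0xa40)
(.leaf 41))
(.node
(.leaf 0x1d000)
(.leaf 0))))
(.node
(.node
(.node
(.leaf 0x640)
(.leaf 25))
(.node
(.leaf 0x3d000)
(.leaf 0)))
(.node
(.node
(.leaf 0xe40)
(.leaf 57))
(.node
(.leaf 0x2d000)
(.leaf 0))))))
(.node
(.node
(.node
(.node
(.node
(.leaf 320)
(.leaf 5))
(.node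
(.leaf 0x9000)
(.leaf 0)))
(.node
(.node
(.leaf 0x940)
(.leaf 37))
(.node
(.leaf 0x19000)
(.leaf 0))))
(.node
(.node
(.node
(.leaf 0x540)
(.leaf 21))
(.node
(.leaf 0x39000)
(.leaf 0)))
(.node
(.node
(.leaf 0xd40)
(.leaf 53))
(.node
(.leaf 0x29000)
(.leaf 0)))))
(.node
(.node
(.node
(.node
(.leaf 832)
(.leaf 13))
(.node
(.leaf 0x5000)
(.leaf 0)))
(.node
(.node
(.leaf 0xb40)
(.leaf 45))
(.node
(.leaf 0x15000)
(.leaf 0))))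
(.node
(.node
(.node
(.leaf 0x740)
(.leaf 29))
(.node
(.leaf 0x35000)
(.leaf 0)))
(.node
(.node
(.leaf 0xf40)
(.leaf 61))
(.node
(.leaf 0x25000)
(.leaf 0)))))))
(.node
(.node
(.node
(.node
(.node
(.node
(.leaf 192)
(.leaf 3))
(.node
(.leaf 0x3000)
(.leaf 0)))
(.node
(.node
(.leaf 0x8c0)
(.leaf 35))
(.node
(.leaf 0x13000)
(.leaf 0))))
(.node
(.node
(.node
(.leaf 0x4c0)
(.leaf 19))
(.node
(.leaf 0x33000)
(.leaf 0)))
(.node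
(.node
(.leaf 0xcc0)
(.leaf 51))
(.node
(.leaf 0x23000)
(.leaf 0)))))
(.node
(.node
(.node
(.node
(.leaf 704)
(.leaf 11))
(.node
(.leaf 0xf000)
(.leaf 0)))
(.node
(.node
(.leaf 0xac0)
(.leaf 43))
(.node
(.leaf 0x1f000)
(.leaf 0))))
(.node
(.node
(.node
(.leaf 0x6c0)
(.leaf 27))
(.node
(.leaf 0x3f000)
(.leaf 0)))
(.node
(.node
(.leaf 0xec0)
(.leaf 59))
(.node
(.leaf 0x2f000)
(.leaf 0))))))
(.node
(.node
(.node
(.node
(.node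
(.leaf 448)
(.leaf 7))
(.node
(.leaf 0xb000)
(.leaf 0)))
(.node
(.node
(.leaf 0x9c0)
(.leaf 39))
(.node
(.leaf 0x1b000)
(.leaf 0))))
(.node
(.node
(.node
(.leaf 0x5c0)
(.leaf 23))
(.node
(.leaf 0x3b000)
(.leaf 0)))
(.node
(.node
(.leaf 0xdc0)
(.leaf 55))
(.node
(.leaf 0x2b000)
(.leaf 0)))))
(.node
(.node
(.node
(.node
(.leaf 960)
(.leaf 15))
(.node
(.leaf 0x7000)
(.leaf 0)))
(.node
(.node
(.leaf 0xbc0)
(.leaf 47))
(.node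
(.leaf 0x17000)
(.leaf 0))))
(.node
(.node
(.node
(.leaf 0x7c0)
(.leaf 31))
(.node
(.leaf 0x37000)
(.leaf 0)))
(.node
(.node
(.leaf 0xfc0)
(.leaf 63))
(.node
(.leaf 0x27000)
(.leaf 0)))))))))

/-- Table 3. -/
noncomputable def tab3 : Tr :=
(.node
(.node
(.node
(.node
(.node
(.node
(.leaf 0)
(.node
(.node
(.leaf 0x800)
(.leaf 8))
(.node
(.leaf 0x2000)
(.leaf 0))))
(.node
(.node
(.node
(.leaf 0x400)
(.leaf 4))
(.node
(.leaf 0x1000)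
(.leaf 0)))
(.node
(.node
(.leaf 0xc00)
(.leaf 12))
(.node
(.leaf 0x3000)
(.leaf 0)))))
(.node
(.node
(.node
(.node
(.leaf 0x8000)
(.leaf 128))
(.node
(.leaf 32)
(.leaf 0)))
(.node
(.node
(.leaf 0x8800)
(.leaf 136))
(.node
(.leaf 0x2020)
(.leaf 0))))
(.node
(.node
(.node
(.leaf 0x8400)
(.leaf 132))
(.node
(.leaf 0x1020)
(.leaf 0)))
(.node
(.node
(.leaf 0x8c00)
(.leaf 140))
(.node
(.leaf 0x3020)
(.leaf 0))))))
(.node
(.node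
(.node
(.node
(.node
(.leaf 0x4000)
(.leaf 64))
(.node
(.leaf 16)
(.leaf 0)))
(.node
(.node
(.leaf 0x4800)
(.leaf 72))
(.node
(.leaf 0x2010)
(.leaf 0))))
(.node
(.node
(.node
(.leaf 0x4400)
(.leaf 68))
(.node
(.leaf 0x1010)
(.leaf 0)))
(.node
(.node
(.leaf 0x4c00)
(.leaf 76))
(.node
(.leaf 0x3010)
(.leaf 0)))))
(.node
(.node
(.node
(.node
(.leaf 0xc000)
(.leaf 192))
(.node
(.leaf 48)
(.leaf 0)))
(.node
(.node
(.leaf 0xc800)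
(.leaf 200))
(.node
(.leaf 0x2030)
(.leaf 0))))
(.node
(.node
(.node
(.leaf 0xc400)
(.leaf 196))
(.node
(.leaf 0x1030)
(.leaf 0)))
(.node
(.node
(.leaf 0xcc00)
(.leaf 204))
(.node
(.leaf 0x3030)
(.leaf 0)))))))
(.node
(.node
(.node
(.node
(.node
(.node
(.leaf 2)
(.leaf 0x20000))
(.node
(.leaf 512)
(.leaf 0)))
(.node
(.node
(.leaf 0x802)
(.leaf 0x20008))
(.node
(.leaf 0x2200)
(.leaf 0))))
(.node
(.node
(.node
(.leaf 0x402)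
(.leaf 0x20004))
(.node
(.leaf 0x1200)
(.leaf 0)))
(.node
(.node
(.leaf 0xc02)
(.leaf 0x2000c))
(.node
(.leaf 0x3200)
(.leaf 0)))))
(.node
(.node
(.node
(.node
(.leaf 0x8002)
(.leaf 0x20080))
(.node
(.leaf 544)
(.leaf 0)))
(.node
(.node
(.leaf 0x8802)
(.leaf 0x20088))
(.node
(.leaf 0x2220)
(.leaf 0))))
(.node
(.node
(.node
(.leaf 0x8402)
(.leaf 0x20084))
(.node
(.leaf 0x1220)
(.leaf 0)))
(.node
(.node
(.leaf 0x8c02)
(.leaf 0x2008c))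
(.node
(.leaf 0x3220)
(.leaf 0))))))
(.node
(.node
(.node
(.node
(.node
(.leaf 0x4002)
(.leaf 0x20040))
(.node
(.leaf 528)
(.leaf 0)))
(.node
(.node
(.leaf 0x4802)
(.leaf 0x20048))
(.node
(.leaf 0x2210)
(.leaf 0))))
(.node
(.node
(.node
(.leaf 0x4402)
(.leaf 0x20044))
(.node
(.leaf 0x1210)
(.leaf 0)))
(.node
(.node
(.leaf 0x4c02)
(.leaf 0x2004c))
(.node
(.leaf 0x3210)
(.leaf 0)))))
(.node
(.node
(.node
(.node
(.leaf 0xc002)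
(.leaf 0x200c0))
(.node
(.leaf 560)
(.leaf 0)))
(.node
(.node
(.leaf 0xc802)
(.leaf 0x200c8))
(.node
(.leaf 0x2230)
(.leaf 0))))
(.node
(.node
(.node
(.leaf 0xc402)
(.leaf 0x200c4))
(.node
(.leaf 0x1230)
(.leaf 0)))
(.node
(.node
(.leaf 0xcc02)
(.leaf 0x200cc))
(.node
(.leaf 0x3230)
(.leaf 0))))))))
(.node
(.node
(.node
(.node
(.node
(.node
(.node
(.leaf 1)
(.leaf 0x10000))
(.node
(.leaf 256)
(.leaf 0)))
(.node
(.node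
(.leaf 0x801)
(.leaf 0x10008))
(.node
(.leaf 0x2100)
(.leaf 0))))
(.node
(.node
(.node
(.leaf 0x401)
(.leaf 0x10004))
(.node
(.leaf 0x1100)
(.leaf 0)))
(.node
(.node
(.leaf 0xc01)
(.leaf 0x1000c))
(.node
(.leaf 0x3100)
(.leaf 0)))))
(.node
(.node
(.node
(.node
(.leaf 0x8001)
(.leaf 0x10080))
(.node
(.leaf 288)
(.leaf 0)))
(.node
(.node
(.leaf 0x8801)
(.leaf 0x10088))
(.node
(.leaf 0x2120)
(.leaf 0))))
(.node
(.node
(.node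
(.leaf 0x8401)
(.leaf 0x10084))
(.node
(.leaf 0x1120)
(.leaf 0)))
(.node
(.node
(.leaf 0x8c01)
(.leaf 0x1008c))
(.node
(.leaf 0x3120)
(.leaf 0))))))
(.node
(.node
(.node
(.node
(.node
(.leaf 0x4001)
(.leaf 0x10040))
(.node
(.leaf 272)
(.leaf 0)))
(.node
(.node
(.leaf 0x4801)
(.leaf 0x10048))
(.node
(.leaf 0x2110)
(.leaf 0))))
(.node
(.node
(.node
(.leaf 0x4401)
(.leaf 0x10044))
(.node
(.leaf 0x1110)
(.leaf 0)))
(.node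
(.node
(.leaf 0x4c01)
(.leaf 0x1004c))
(.node
(.leaf 0x3110)
(.leaf 0)))))
(.node
(.node
(.node
(.node
(.leaf 0xc001)
(.leaf 0x100c0))
(.node
(.leaf 304)
(.leaf 0)))
(.node
(.node
(.leaf 0xc801)
(.leaf 0x100c8))
(.node
(.leaf 0x2130)
(.leaf 0))))
(.node
(.node
(.node
(.leaf 0xc401)
(.leaf 0x100c4))
(.node
(.leaf 0x1130)
(.leaf 0)))
(.node
(.node
(.leaf 0xcc01)
(.leaf 0x100cc))
(.node
(.leaf 0x3130)
(.leaf 0)))))))
(.node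
(.node
(.node
(.node
(.node
(.node
(.leaf 3)
(.leaf 0x30000))
(.node
(.leaf 768)
(.leaf 0)))
(.node
(.node
(.leaf 0x803)
(.leaf 0x30008))
(.node
(.leaf 0x2300)
(.leaf 0))))
(.node
(.node
(.node
(.leaf 0x403)
(.leaf 0x30004))
(.node
(.leaf 0x1300)
(.leaf 0)))
(.node
(.node
(.leaf 0xc03)
(.leaf 0x3000c))
(.node
(.leaf 0x3300)
(.leaf 0)))))
(.node
(.node
(.node
(.node
(.leaf 0x8003)
(.leaf 0x30080))
(.node
(.leaf 800)
(.leaf 0)))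
(.node
(.node
(.leaf 0x8803)
(.leaf 0x30088))
(.node
(.leaf 0x2320)
(.leaf 0))))
(.node
(.node
(.node
(.leaf 0x8403)
(.leaf 0x30084))
(.node
(.leaf 0x1320)
(.leaf 0)))
(.node
(.node
(.leaf 0x8c03)
(.leaf 0x3008c))
(.node
(.leaf 0x3320)
(.leaf 0))))))
(.node
(.node
(.node
(.node
(.node
(.leaf 0x4003)
(.leaf 0x30040))
(.node
(.leaf 784)
(.leaf 0)))
(.node
(.node
(.leaf 0x4803)
(.leaf 0x30048))
(.node
(.leaf 0x2310)
(.leaf 0))))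
(.node
(.node
(.node
(.leaf 0x4403)
(.leaf 0x30044))
(.node
(.leaf 0x1310)
(.leaf 0)))
(.node
(.node
(.leaf 0x4c03)
(.leaf 0x3004c))
(.node
(.leaf 0x3310)
(.leaf 0)))))
(.node
(.node
(.node
(.node
(.leaf 0xc003)
(.leaf 0x300c0))
(.node
(.leaf 816)
(.leaf 0)))
(.node
(.node
(.leaf 0xc803)
(.leaf 0x300c8))
(.node
(.leaf 0x2330)
(.leaf 0))))
(.node
(.node
(.node
(.leaf 0xc403)
(.leaf 0x300c4))
(.node
(.leaf 0x1330)
(.leaf 0)))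
(.node
(.node
(.leaf 0xcc03)
(.leaf 0x300cc))
(.node
(.leaf 0x3330)
(.leaf 0)))))))))

/-- Table 4. -/
noncomputable def tab4 : Tr :=
(.node
(.node
(.node
(.node
(.node
(.node
(.leaf 0)
(.node
(.node
(.leaf 0x20a0)
(.leaf 0x28200))
(.node
(.leaf 0x8a00)
(.leaf 0))))
(.node
(.node
(.node
(.leaf 0x1050)
(.leaf 0x14100))
(.node
(.leaf 0x4500)
(.leaf 0)))
(.node
(.node
(.leaf 0x30f0)
(.leaf 0x3c300))
(.node
(.leaf 0xcf00)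
(.leaf 0)))))
(.node
(.node
(.node
(.node
(.leaf 0x2088)
(.leaf 0x28800))
(.node
(.leaf 0x20a00)
(.leaf 0)))
(.node
(.node
(.leaf 40)
(.leaf 0xa00))
(.node
(.leaf 0x28000)
(.leaf 0))))
(.node
(.node
(.node
(.leaf 0x30d8)
(.leaf 0x3c900))
(.node
(.leaf 0x24f00)
(.leaf 0)))
(.node
(.node
(.leaf 0x1078)
(.leaf 0x14b00))
(.node
(.leaf 0x2c500)
(.leaf 0))))))
(.node
(.node
(.node
(.node
(.node
(.leaf 0x1044)
(.leaf 0x14400))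
(.node
(.leaf 0x10500)
(.leaf 0)))
(.node
(.node
(.leaf 0x30e4)
(.leaf 0x3c600))
(.node
(.leaf 0x18f00)
(.leaf 0))))
(.node
(.node
(.node
(.leaf 20)
(.leaf 0x500))
(.node
(.leaf 0x14000)
(.leaf 0)))
(.node
(.node
(.leaf 0x20b4)
(.leaf 0x28700))
(.node
(.leaf 0x1ca00)
(.leaf 0)))))
(.node
(.node
(.node
(.node
(.leaf 0x30cc)
(.leaf 0x3cc00))
(.node
(.leaf 0x30f00)
(.leaf 0)))
(.node
(.node
(.leaf 0x106c)
(.leaf 0x14e00))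
(.node
(.leaf 0x38500)
(.leaf 0))))
(.node
(.node
(.node
(.leaf 0x209c)
(.leaf 0x28d00))
(.node
(.leaf 0x34a00)
(.leaf 0)))
(.node
(.node
(.leaf 60)
(.leaf 0xf00))
(.node
(.leaf 0x3c000)
(.leaf 0)))))))
(.node
(.node
(.node
(.node
(.node
(.node
(.leaf 2)
(.leaf 168))
(.node
(.leaf 0x2028)
(.leaf 0)))
(.node
(.node
(.leaf 0x20a2)
(.leaf 0x282a8))
(.node
(.leaf 0xaa28)
(.leaf 0))))
(.node
(.node
(.node
(.leaf 0x1052)
(.leaf 0x141a8))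
(.node
(.leaf 0x6528)
(.leaf 0)))
(.node
(.node
(.leaf 0x30f2)
(.leaf 0x3c3a8))
(.node
(.leaf 0xef28)
(.leaf 0)))))
(.node
(.node
(.node
(.node
(.leaf 0x208a)
(.leaf 0x288a8))
(.node
(.leaf 0x22a28)
(.leaf 0)))
(.node
(.node
(.leaf 42)
(.leaf 0xaa8))
(.node
(.leaf 0x2a028)
(.leaf 0))))
(.node
(.node
(.node
(.leaf 0x30da)
(.leaf 0x3c9a8))
(.node
(.leaf 0x26f28)
(.leaf 0)))
(.node
(.node
(.leaf 0x107a)
(.leaf 0x14ba8))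
(.node
(.leaf 0x2e528)
(.leaf 0))))))
(.node
(.node
(.node
(.node
(.node
(.leaf 0x1046)
(.leaf 0x144a8))
(.node
(.leaf 0x12528)
(.leaf 0)))
(.node
(.node
(.leaf 0x30e6)
(.leaf 0x3c6a8))
(.node
(.leaf 0x1af28)
(.leaf 0))))
(.node
(.node
(.node
(.leaf 22)
(.leaf 0x5a8))
(.node
(.leaf 0x16028)
(.leaf 0)))
(.node
(.node
(.leaf 0x20b6)
(.leaf 0x287a8))
(.node
(.leaf 0x1ea28)
(.leaf 0)))))
(.node
(.node
(.node
(.node
(.leaf 0x30ce)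
(.leaf 0x3cca8))
(.node
(.leaf 0x32f28)
(.leaf 0)))
(.node
(.node
(.leaf 0x106e)
(.leaf 0x14ea8))
(.node
(.leaf 0x3a528)
(.leaf 0))))
(.node
(.node
(.node
(.leaf 0x209e)
(.leaf 0x28da8))
(.node
(.leaf 0x36a28)
(.leaf 0)))
(.node
(.node
(.leaf 62)
(.leaf 0xfa8))
(.node
(.leaf 0x3e028)
(.leaf 0))))))))
(.node
(.node
(.node
(.node
(.node
(.node
(.node
(.leaf 1)
(.leaf 84))
(.node
(.leaf 0x1014)
(.leaf 0)))
(.node
(.node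
(.leaf 0x20a1)
(.leaf 0x28254))
(.node
(.leaf 0x9a14)
(.leaf 0))))
(.node
(.node
(.node
(.leaf 0x1051)
(.leaf 0x14154))
(.node
(.leaf 0x5514)
(.leaf 0)))
(.node
(.node
(.leaf 0x30f1)
(.leaf 0x3c354))
(.node
(.leaf 0xdf14)
(.leaf 0)))))
(.node
(.node
(.node
(.node
(.leaf 0x2089)
(.leaf 0x28854))
(.node
(.leaf 0x21a14)
(.leaf 0)))
(.node
(.node
(.leaf 41)
(.leaf 0xa54))
(.node
(.leaf 0x29014)
(.leaf 0))))
(.node
(.node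
(.node
(.leaf 0x30d9)
(.leaf 0x3c954))
(.node
(.leaf 0x25f14)
(.leaf 0)))
(.node
(.node
(.leaf 0x1079)
(.leaf 0x14b54))
(.node
(.leaf 0x2d514)
(.leaf 0))))))
(.node
(.node
(.node
(.node
(.node
(.leaf 0x1045)
(.leaf 0x14454))
(.node
(.leaf 0x11514)
(.leaf 0)))
(.node
(.node
(.leaf 0x30e5)
(.leaf 0x3c654))
(.node
(.leaf 0x19f14)
(.leaf 0))))
(.node
(.node
(.node
(.leaf 21)
(.leaf 0x554))
(.node
(.leaf 0x15014)
(.leaf 0)))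
(.node
(.node
(.leaf 0x20b5)
(.leaf 0x28754))
(.node
(.leaf 0x1da14)
(.leaf 0)))))
(.node
(.node
(.node
(.node
(.leaf 0x30cd)
(.leaf 0x3cc54))
(.node
(.leaf 0x31f14)
(.leaf 0)))
(.node
(.node
(.leaf 0x106d)
(.leaf 0x14e54))
(.node
(.leaf 0x39514)
(.leaf 0))))
(.node
(.node
(.node
(.leaf 0x209d)
(.leaf 0x28d54))
(.node
(.leaf 0x35a14)
(.leaf 0)))
(.node
(.node
(.leaf 61)
(.leaf 0xf54))
(.node
(.leaf 0x3d014)
(.leaf 0)))))))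
(.node
(.node
(.node
(.node
(.node
(.node
(.leaf 3)
(.leaf 252))
(.node
(.leaf 0x303c)
(.leaf 0)))
(.node
(.node
(.leaf 0x20a3)
(.leaf 0x282fc))
(.node
(.leaf 0xba3c)
(.leaf 0))))
(.node
(.node
(.node
(.leaf 0x1053)
(.leaf 0x141fc))
(.node
(.leaf 0x753c)
(.leaf 0)))
(.node
(.node
(.leaf 0x30f3)
(.leaf 0x3c3fc))
(.node
(.leaf 0xff3c)
(.leaf 0)))))
(.node
(.node
(.node
(.node
(.leaf 0x208b)
(.leaf 0x288fc))
(.node
(.leaf 0x23a3c)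
(.leaf 0)))
(.node
(.node
(.leaf 43)
(.leaf 0xafc))
(.node
(.leaf 0x2b03c)
(.leaf 0))))
(.node
(.node
(.node
(.leaf 0x30db)
(.leaf 0x3c9fc))
(.node
(.leaf 0x27f3c)
(.leaf 0)))
(.node
(.node
(.leaf 0x107b)
(.leaf 0x14bfc))
(.node
(.leaf 0x2f53c)
(.leaf 0))))))
(.node
(.node
(.node
(.node
(.node
(.leaf 0x1047)
(.leaf 0x144fc))
(.node
(.leaf 0x1353c)
(.leaf 0)))
(.node
(.node
(.leaf 0x30e7)
(.leaf 0x3c6fc))
(.node
(.leaf 0x1bf3c)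
(.leaf 0))))
(.node
(.node
(.node
(.leaf 23)
(.leaf 0x5fc))
(.node
(.leaf 0x1703c)
(.leaf 0)))
(.node
(.node
(.leaf 0x20b7)
(.leaf 0x287fc))
(.node
(.leaf 0x1fa3c)
(.leaf 0)))))
(.node
(.node
(.node
(.node
(.leaf 0x30cf)
(.leaf 0x3ccfc))
(.node
(.leaf 0x33f3c)
(.leaf 0)))
(.node
(.node
(.leaf 0x106f)
(.leaf 0x14efc))
(.node
(.leaf 0x3b53c)
(.leaf 0))))
(.node
(.node
(.node
(.leaf 0x209f)
(.leaf 0x28dfc))
(.node
(.leaf 0x37a3c)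
(.leaf 0)))
(.node
(.node
(.leaf 63)
(.leaf 0xffc))
(.node
(.leaf 0x3f03c)
(.leaf 0)))))))))

/-- Table 5. -/
noncomputable def tab5 : Tr :=
(.node
(.node
(.node
(.node
(.node
(.node
(.leaf 0)
(.node
(.node
(.leaf 48)
(.leaf 0x30000))
(.node
(.leaf 0xc00)
(.leaf 0))))
(.node
(.node
(.node
(.leaf 32)
(.leaf 0x20000))
(.node
(.leaf 0x800)
(.leaf 0)))
(.node
(.node
(.leaf 16)
(.leaf 0x10000))
(.node
(.leaf 0x400)
(.leaf 0)))))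
(.node
(.node
(.node
(.node
(.leaf 12)
(.leaf 0xc000))
(.node
(.leaf 768)
(.leaf 0)))
(.node
(.node
(.leaf 60)
(.leaf 0x3c000))
(.node
(.leaf 0xf00)
(.leaf 0))))
(.node
(.node
(.node
(.leaf 44)
(.leaf 0x2c000))
(.node
(.leaf 0xb00)
(.leaf 0)))
(.node
(.node
(.leaf 28)
(.leaf 0x1c000))
(.node
(.leaf 0x700)
(.leaf 0))))))
(.node
(.node
(.node
(.node
(.node
(.leaf 8)
(.leaf 0x8000))
(.node
(.leaf 512)
(.leaf 0)))
(.node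
(.node
(.leaf 56)
(.leaf 0x38000))
(.node
(.leaf 0xe00)
(.leaf 0))))
(.node
(.node
(.node
(.leaf 40)
(.leaf 0x28000))
(.node
(.leaf 0xa00)
(.leaf 0)))
(.node
(.node
(.leaf 24)
(.leaf 0x18000))
(.node
(.leaf 0x600)
(.leaf 0)))))
(.node
(.node
(.node
(.node
(.leaf 4)
(.leaf 0x4000))
(.node
(.leaf 256)
(.leaf 0)))
(.node
(.node
(.leaf 52)
(.leaf 0x34000))
(.node
(.leaf 0xd00)
(.leaf 0))))
(.node
(.node
(.node
(.leaf 36)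
(.leaf 0x24000))
(.node
(.leaf 0x900)
(.leaf 0)))
(.node
(.node
(.leaf 20)
(.leaf 0x14000))
(.node
(.leaf 0x500)
(.leaf 0)))))))
(.node
(.node
(.node
(.node
(.node
(.node
(.leaf 3)
(.leaf 0x3000))
(.node
(.leaf 192)
(.leaf 0)))
(.node
(.node
(.leaf 51)
(.leaf 0x33000))
(.node
(.leaf 0xcc0)
(.leaf 0))))
(.node
(.node
(.node
(.leaf 35)
(.leaf 0x23000))
(.node
(.leaf 0x8c0)
(.leaf 0)))
(.node
(.node
(.leaf 19)
(.leaf 0x13000))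
(.node
(.leaf 0x4c0)
(.leaf 0)))))
(.node
(.node
(.node
(.node
(.leaf 15)
(.leaf 0xf000))
(.node
(.leaf 960)
(.leaf 0)))
(.node
(.node
(.leaf 63)
(.leaf 0x3f000))
(.node
(.leaf 0xfc0)
(.leaf 0))))
(.node
(.node
(.node
(.leaf 47)
(.leaf 0x2f000))
(.node
(.leaf 0xbc0)
(.leaf 0)))
(.node
(.node
(.leaf 31)
(.leaf 0x1f000))
(.node
(.leaf 0x7c0)
(.leaf 0))))))
(.node
(.node
(.node
(.node
(.node
(.leaf 11)
(.leaf 0xb000))
(.node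
(.leaf 704)
(.leaf 0)))
(.node
(.node
(.leaf 59)
(.leaf 0x3b000))
(.node
(.leaf 0xec0)
(.leaf 0))))
(.node
(.node
(.node
(.leaf 43)
(.leaf 0x2b000))
(.node
(.leaf 0xac0)
(.leaf 0)))
(.node
(.node
(.leaf 27)
(.leaf 0x1b000))
(.node
(.leaf 0x6c0)
(.leaf 0)))))
(.node
(.node
(.node
(.node
(.leaf 7)
(.leaf 0x7000))
(.node
(.leaf 448)
(.leaf 0)))
(.node
(.node
(.leaf 55)
(.leaf 0x37000))
(.node
(.leaf 0xdc0)
(.leaf 0))))
(.node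
(.node
(.node
(.leaf 39)
(.leaf 0x27000))
(.node
(.leaf 0x9c0)
(.leaf 0)))
(.node
(.node
(.leaf 23)
(.leaf 0x17000))
(.node
(.leaf 0x5c0)
(.leaf 0))))))))
(.node
(.node
(.node
(.node
(.node
(.node
(.node
(.leaf 2)
(.leaf 0x2000))
(.node
(.leaf 128)
(.leaf 0)))
(.node
(.node
(.leaf 50)
(.leaf 0x32000))
(.node
(.leaf 0xc80)
(.leaf 0))))
(.node
(.node
(.node
(.leaf 34)
(.leaf 0x22000))
(.node
(.leaf 0x880)
(.leaf 0)))
(.node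
(.node
(.leaf 18)
(.leaf 0x12000))
(.node
(.leaf 0x480)
(.leaf 0)))))
(.node
(.node
(.node
(.node
(.leaf 14)
(.leaf 0xe000))
(.node
(.leaf 896)
(.leaf 0)))
(.node
(.node
(.leaf 62)
(.leaf 0x3e000))
(.node
(.leaf 0xf80)
(.leaf 0))))
(.node
(.node
(.node
(.leaf 46)
(.leaf 0x2e000))
(.node
(.leaf 0xb80)
(.leaf 0)))
(.node
(.node
(.leaf 30)
(.leaf 0x1e000))
(.node
(.leaf 0x780)
(.leaf 0))))))
(.node
(.node
(.node
(.node
(.node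
(.leaf 10)
(.leaf 0xa000))
(.node
(.leaf 640)
(.leaf 0)))
(.node
(.node
(.leaf 58)
(.leaf 0x3a000))
(.node
(.leaf 0xe80)
(.leaf 0))))
(.node
(.node
(.node
(.leaf 42)
(.leaf 0x2a000))
(.node
(.leaf 0xa80)
(.leaf 0)))
(.node
(.node
(.leaf 26)
(.leaf 0x1a000))
(.node
(.leaf 0x680)
(.leaf 0)))))
(.node
(.node
(.node
(.node
(.leaf 6)
(.leaf 0x6000))
(.node
(.leaf 384)
(.leaf 0)))
(.node
(.node
(.leaf 54)
(.leaf 0x36000))
(.node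
(.leaf 0xd80)
(.leaf 0))))
(.node
(.node
(.node
(.leaf 38)
(.leaf 0x26000))
(.node
(.leaf 0x980)
(.leaf 0)))
(.node
(.node
(.leaf 22)
(.leaf 0x16000))
(.node
(.leaf 0x580)
(.leaf 0)))))))
(.node
(.node
(.node
(.node
(.node
(.node
(.leaf 1)
(.leaf 0x1000))
(.node
(.leaf 64)
(.leaf 0)))
(.node
(.node
(.leaf 49)
(.leaf 0x31000))
(.node
(.leaf 0xc40)
(.leaf 0))))
(.node
(.node
(.node
(.leaf 33)
(.leaf 0x21000))
(.node
(.leaf 0x840)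
(.leaf 0)))
(.node
(.node
(.leaf 17)
(.leaf 0x11000))
(.node
(.leaf 0x440)
(.leaf 0)))))
(.node
(.node
(.node
(.node
(.leaf 13)
(.leaf 0xd000))
(.node
(.leaf 832)
(.leaf 0)))
(.node
(.node
(.leaf 61)
(.leaf 0x3d000))
(.node
(.leaf 0xf40)
(.leaf 0))))
(.node
(.node
(.node
(.leaf 45)
(.leaf 0x2d000))
(.node
(.leaf 0xb40)
(.leaf 0)))
(.node
(.node
(.leaf 29)
(.leaf 0x1d000))
(.node
(.leaf 0x740)
(.leaf 0))))))
(.node
(.node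
(.node
(.node
(.node
(.leaf 9)
(.leaf 0x9000))
(.node
(.leaf 576)
(.leaf 0)))
(.node
(.node
(.leaf 57)
(.leaf 0x39000))
(.node
(.leaf 0xe40)
(.leaf 0))))
(.node
(.node
(.node
(.leaf 41)
(.leaf 0x29000))
(.node
(.leaf 0xa40)
(.leaf 0)))
(.node
(.node
(.leaf 25)
(.leaf 0x19000))
(.node
(.leaf 0x640)
(.leaf 0)))))
(.node
(.node
(.node
(.node
(.leaf 5)
(.leaf 0x5000))
(.node
(.leaf 320)
(.leaf 0)))
(.node
(.node
(.leaf 53)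
(.leaf 0x35000))
(.node
(.leaf 0xd40)
(.leaf 0))))
(.node
(.node
(.node
(.leaf 37)
(.leaf 0x25000))
(.node
(.leaf 0x940)
(.leaf 0)))
(.node
(.node
(.leaf 21)
(.leaf 0x15000))
(.node
(.leaf 0x540)
(.leaf 0)))))))))

/-- The tables. -/
noncomputable def T : ℕ → Tr
  | 0 => tab0
  | 1 => tab1
  | 2 => tab2
  | 3 => tab3
  | 4 => tab4
  | _ => tab5

/-- Words for family A. -/
noncomputable def WA : List (List ℕ) :=
  [[], [2, 2, 2], [0, 3, 0, 4, 3, 4], [0], [0, 2, 2, 2], [4, 3, 4, 0, 3], [0, 0], [0, 0, 2, 2, 2], [3, 0, 4, 3, 4]]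

/-- Words for family E. -/
noncomputable def WE : List (List ℕ) :=
  [[1], [0, 2, 2, 1, 2], [0, 2, 2, 1, 2, 2, 2, 2], [1, 2, 2, 4, 3, 4, 0, 3, 2], [1, 2, 0, 2, 2], [1, 2, 0, 2, 2, 2, 2, 2], [1, 2, 3, 0, 4, 3, 4, 2, 2], [2, 1, 2, 0, 2], [2, 1, 2, 0, 2, 2, 2, 2]]

/-- Words for family D. -/
noncomputable def WD : List (List ℕ) :=
  [[], [4, 3, 3, 4, 2, 3, 3], [3, 3, 2, 4, 3, 3, 4], [2], [3, 2, 4, 3, 4], [0, 4, 3, 4, 0, 2, 2, 3], [4, 2, 4, 2, 4, 2, 4], [4, 3, 4, 2, 3], [0, 3, 0, 0, 2, 2, 4, 3, 4]]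

/-- Words for family B. -/
noncomputable def WB : List (List ℕ) :=
  [[], [4, 3, 3, 4], [3, 3], [], [3], [3, 3, 3], [3, 3, 3, 3], [4, 3, 4], [3, 3, 3, 3, 3]]

/-- Words for family C. -/
noncomputable def WC : List (List ℕ) :=
  [[], [4, 3, 3], [3, 3, 4], [4], [3, 4], [3, 3, 3, 4], [3, 3, 3, 3, 4], [4, 3], [4, 3, 3, 3]]

/-- Exponents. -/
noncomputable def ordE (b : ℕ) : ℕ := ([3, 3, 9, 8, 2] : List ℕ).getD b 1

theorem tabs_ok : allIn (tabOK T) 0 6 = true := by decide +kernel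

theorem words_ok : allIn (fun j => wordOK T (cA (fz j)) (WA.getD j []) &&
    wordOK T (cE (fz j)) (WE.getD j []) && wordOK T (cD (fz j)) (WD.getD j [])) 0 9 = true := by
  decide +kernel

theorem words'_ok : allIn (fun j => wordOK T (cB (fz j)) (WB.getD j []) &&
    wordOK T (cC (fz j)) (WC.getD j [])) 1 8 = true := by decide +kernel

theorem pows_ok : allIn (fun b => Nat.blt 0 (ordE b) &&
    wordOK T (fun w z => bif decide (w = z) then 1 else 0) (List.replicate (ordE b) b)) 0 5 = true := by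
  decide +kernel

end H29.ThreeJData
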